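import Mathlib

/-!
# Binary vectors, weights, and the form `wt / 2 mod 2` on even-weight vectors

Used for the embedding of `Sym(4k+4)` in `O^±_{4k+2}(2)`.
-/

set_option autoImplicit false

namespace Cfsg.Agent.Lib.Helper5.SymOrth

open Finset

variable {N : ℕ}

/-- binary vectors -/
abbrev Vec (N : ℕ) : Type := Fin N → ZMod 2

theorem z2_cases (a : ZMod 2) : a = 0 ∨ a = 1 := by
  revert a; decide

theorem z2_add_self (a : ZMod 2) : a + a = 0 := by
  revert a; decide

theorem z2_mul_self (a : ZMod 2) : a * a = a := by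
  revert a; decide

theorem z2_eq_of_add_eq_zero {a b : ZMod 2} (h : a + b = 0) : a = b := by
  revert a b; decide

theorem z2_two : ((2 : ℕ) : ZMod 2) = 0 := by decide

theorem z2_cast_even {n : ℕ} (h : Even n) : ((n : ℕ) : ZMod 2) = 0 := by
  obtain ⟨m, rfl⟩ := h
  push_cast
  exact z2_add_self _

theorem z2_cast_odd {n : ℕ} (h : Odd n) : ((n : ℕ) : ZMod 2) = 1 := by
  obtain ⟨m, rfl⟩ := h
  push_cast
  have : ((2 : ZMod 2)) = 0 := by decide
  rw [this, zero_mul, zero_add]

theorem z2_cast_eq_zero_iff {n : ℕ} : ((n : ℕ) : ZMod 2) = 0 ↔ Even n := by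
  constructor
  · intro h
    by_contra hne
    rw [Nat.not_even_iff_odd] at hne
    rw [z2_cast_odd hne] at h
    exact one_ne_zero h
  · exact z2_cast_even

/-- indicator vector of a set -/
def ind (A : Finset (Fin N)) : Vec N := fun i => if i ∈ A then 1 else 0

/-- support of a vector -/
def supp (w : Vec N) : Finset (Fin N) := univ.filter (fun i => w i = 1)

/-- dot product -/
def dot (u v : Vec N) : ZMod 2 := ∑ i, u i * v i

/-- weight -/
def wt (w : Vec N) : ℕ := (supp w).card

/-- the quadratic form `wt / 2 mod 2` -/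
def qf (w : Vec N) : ZMod 2 := ((wt w / 2 : ℕ) : ZMod 2)

/-- even weight -/
def IsEven (w : Vec N) : Prop := ∑ i, w i = 0

/-- the all-ones vector -/
def ones : Vec N := fun _ => 1

@[simp] theorem ind_apply (A : Finset (Fin N)) (i : Fin N) :
    ind A i = if i ∈ A then 1 else 0 := rfl

theorem mem_supp {w : Vec N} {i : Fin N} : i ∈ supp w ↔ w i = 1 := by
  simp [supp]

theorem ind_supp (w : Vec N) : ind (supp w) = w := by
  funext i
  rw [ind_apply]
  rcases z2_cases (w i) with h | h
  · rw [if_neg, h]
    rw [mem_supp, h]; exact zero_ne_one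
  · rw [if_pos (mem_supp.2 h), h]

theorem supp_ind (A : Finset (Fin N)) : supp (ind A) = A := by
  ext i
  rw [mem_supp, ind_apply]
  by_cases h : i ∈ A
  · simp [h]
  · simp [h]

theorem wt_ind (A : Finset (Fin N)) : wt (ind A) = A.card := by
  rw [wt, supp_ind]

theorem sum_ind (A : Finset (Fin N)) : ∑ i, ind A i = (A.card : ZMod 2) := by
  simp only [ind_apply]
  rw [Finset.sum_boole]
  congr 2
  ext i
  simp

theorem dot_ind (A B : Finset (Fin N)) : dot (ind A) (ind B) = ((A ∩ B).card : ZMod 2) := by
  unfold dot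
  have : ∀ i, ind A i * ind B i = if i ∈ A ∩ B then 1 else 0 := by
    intro i
    simp only [ind_apply, Finset.mem_inter]
    by_cases h1 : i ∈ A <;> by_cases h2 : i ∈ B <;> simp [h1, h2]
  simp only [this]
  rw [Finset.sum_boole]
  congr 2
  ext i
  simp

theorem ind_add (A B : Finset (Fin N)) : ind A + ind B = ind (symmDiff A B) := by
  funext i
  simp only [Pi.add_apply, ind_apply, Finset.mem_symmDiff]
  by_cases h1 : i ∈ A <;> by_cases h2 : i ∈ B <;> simp [h1, h2]
  decide

theorem ind_union_of_disjoint {A B : Finset (Fin N)} (h : Disjoint A B) :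
    ind (A ∪ B) = ind A + ind B := by
  rw [ind_add]
  congr 1
  rw [Finset.disjoint_iff_inter_eq_empty] at h
  ext i
  simp only [Finset.mem_union, Finset.mem_symmDiff]
  have : ¬ (i ∈ A ∧ i ∈ B) := by
    intro ⟨h1, h2⟩
    have : i ∈ A ∩ B := Finset.mem_inter.2 ⟨h1, h2⟩
    rw [h] at this
    simp at this
  tauto

theorem ind_empty : ind (∅ : Finset (Fin N)) = 0 := by
  funext i; simp

theorem ind_univ : ind (univ : Finset (Fin N)) = ones := by
  funext i; simp [ones]

theorem isEven_iff (w : Vec N) : IsEven w ↔ Even (wt w) := by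
  unfold IsEven
  conv_lhs => rw [← ind_supp w]
  rw [sum_ind, z2_cast_eq_zero_iff, wt]

/-! ### dot product algebra -/

theorem dot_comm (u v : Vec N) : dot u v = dot v u := by
  unfold dot
  exact Finset.sum_congr rfl fun i _ => mul_comm _ _

theorem dot_add_left (u v w : Vec N) : dot (u + v) w = dot u w + dot v w := by
  unfold dot
  rw [← Finset.sum_add_distrib]
  exact Finset.sum_congr rfl fun i _ => by rw [Pi.add_apply, add_mul]

theorem dot_add_right (u v w : Vec N) : dot u (v + w) = dot u v + dot u w := by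
  rw [dot_comm, dot_add_left, dot_comm v, dot_comm w]

theorem dot_zero_left (w : Vec N) : dot 0 w = 0 := by
  unfold dot; simp

theorem dot_zero_right (w : Vec N) : dot w 0 = 0 := by
  unfold dot; simp

theorem dot_smul_left (a : ZMod 2) (u w : Vec N) : dot (a • u) w = a * dot u w := by
  unfold dot
  rw [Finset.mul_sum]
  exact Finset.sum_congr rfl fun i _ => by rw [Pi.smul_apply, smul_eq_mul, mul_assoc]

theorem dot_smul_right (a : ZMod 2) (u w : Vec N) : dot u (a • w) = a * dot u w := by
  rw [dot_comm, dot_smul_left, dot_comm]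

theorem dot_sum_left {ι : Type*} (s : Finset ι) (f : ι → Vec N) (w : Vec N) :
    dot (∑ c ∈ s, f c) w = ∑ c ∈ s, dot (f c) w := by
  classical
  induction s using Finset.induction_on with
  | empty => simp [dot_zero_left]
  | insert a s ha ih => rw [Finset.sum_insert ha, Finset.sum_insert ha, dot_add_left, ih]

theorem dot_sum_right {ι : Type*} (s : Finset ι) (f : ι → Vec N) (w : Vec N) :
    dot w (∑ c ∈ s, f c) = ∑ c ∈ s, dot w (f c) := by
  rw [dot_comm, dot_sum_left]
  exact Finset.sum_congr rfl fun c _ => dot_comm _ _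

theorem dot_self (w : Vec N) : dot w w = ∑ i, w i := by
  unfold dot
  exact Finset.sum_congr rfl fun i _ => z2_mul_self _

theorem dot_ones (w : Vec N) : dot w ones = ∑ i, w i := by
  unfold dot ones
  simp

theorem dot_ones_of_even {w : Vec N} (h : IsEven w) : dot w ones = 0 := by
  rw [dot_ones]; exact h

theorem dot_self_of_even {w : Vec N} (h : IsEven w) : dot w w = 0 := by
  rw [dot_self]; exact h

/-! ### evenness -/

theorem isEven_zero : IsEven (0 : Vec N) := by
  unfold IsEven; simp

theorem IsEven.add {u v : Vec N} (hu : IsEven u) (hv : IsEven v) : IsEven (u + v) := by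
  unfold IsEven at *
  simp only [Pi.add_apply]
  rw [Finset.sum_add_distrib, hu, hv, add_zero]

theorem IsEven.smul (a : ZMod 2) {u : Vec N} (hu : IsEven u) : IsEven (a • u) := by
  unfold IsEven at *
  simp only [Pi.smul_apply, smul_eq_mul]
  rw [← Finset.mul_sum, hu, mul_zero]

theorem isEven_sum {ι : Type*} (s : Finset ι) (f : ι → Vec N) (h : ∀ c ∈ s, IsEven (f c)) :
    IsEven (∑ c ∈ s, f c) := by
  classical
  induction s using Finset.induction_on with
  | empty => simpa using isEven_zero
  | insert a s ha ih =>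
    rw [Finset.sum_insert ha]
    exact (h a (Finset.mem_insert_self _ _)).add
      (ih fun c hc => h c (Finset.mem_insert_of_mem hc))

theorem isEven_ind {A : Finset (Fin N)} (h : Even A.card) : IsEven (ind A) := by
  unfold IsEven
  rw [sum_ind]
  exact z2_cast_even h

theorem isEven_ones (hN : Even N) : IsEven (ones : Vec N) := by
  rw [← ind_univ]
  apply isEven_ind
  simpa using hN

/-! ### the quadratic form -/

theorem qf_zero : qf (0 : Vec N) = 0 := by
  unfold qf wt
  have : supp (0 : Vec N) = ∅ := by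
    ext i; simp [mem_supp]
  rw [this]; simp

theorem qf_ind (A : Finset (Fin N)) : qf (ind A) = ((A.card / 2 : ℕ) : ZMod 2) := by
  unfold qf
  rw [wt_ind]

theorem card_symmDiff_add (A B : Finset (Fin N)) :
    (symmDiff A B).card + 2 * (A ∩ B).card = A.card + B.card := by
  have h1 : (symmDiff A B).card = (A \ B).card + (B \ A).card := by
    rw [Finset.symmDiff_def, Finset.card_union_of_disjoint]
    exact disjoint_sdiff_sdiff
  have h2 : (A \ B).card + (A ∩ B).card = A.card := Finset.card_sdiff_add_card_inter A B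
  have h3 : (B \ A).card + (B ∩ A).card = B.card := Finset.card_sdiff_add_card_inter B A
  rw [Finset.inter_comm B A] at h3
  omega

theorem qf_add {u v : Vec N} (hu : IsEven u) (hv : IsEven v) :
    qf (u + v) = qf u + qf v + dot u v := by
  rw [isEven_iff] at hu hv
  obtain ⟨a, ha⟩ := hu
  obtain ⟨b, hb⟩ := hv
  have hd : dot u v = (((supp u ∩ supp v).card : ℕ) : ZMod 2) := by
    conv_lhs => rw [← ind_supp u, ← ind_supp v]
    exact dot_ind _ _
  have hs : wt (u + v) = (symmDiff (supp u) (supp v)).card := by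
    conv_lhs => rw [← ind_supp u, ← ind_supp v, ind_add]
    exact wt_ind _
  have hc := card_symmDiff_add (supp u) (supp v)
  unfold wt at ha hb
  set c := (supp u ∩ supp v).card with hcdef
  rw [hd]
  unfold qf
  rw [hs]
  unfold wt
  rw [ha, hb]
  have e1 : (a + a) / 2 = a := by omega
  have e2 : (b + b) / 2 = b := by omega
  have e3 : (symmDiff (supp u) (supp v)).card / 2 + c = a + b := by omega
  rw [e1, e2]
  have e4 : (((symmDiff (supp u) (supp v)).card / 2 : ℕ) : ZMod 2) + (c : ZMod 2)
      = (a : ZMod 2) + (b : ZMod 2) := by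
    rw [← Nat.cast_add, e3, Nat.cast_add]
  have e5 : (((symmDiff (supp u) (supp v)).card / 2 : ℕ) : ZMod 2)
      = (a : ZMod 2) + (b : ZMod 2) + (c : ZMod 2) := by
    rw [← e4, add_assoc, z2_add_self, add_zero]
  exact e5

/-- orthogonal sums -/
theorem qf_sum_orth {ι : Type*} (s : Finset ι) (f : ι → Vec N) (he : ∀ c ∈ s, IsEven (f c))
    (ho : ∀ c ∈ s, ∀ c' ∈ s, c ≠ c' → dot (f c) (f c') = 0) :
    qf (∑ c ∈ s, f c) = ∑ c ∈ s, qf (f c) := by
  classical
  induction s using Finset.induction_on with
  | empty => simp [qf_zero]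
  | insert a s ha ih =>
    rw [Finset.sum_insert ha, Finset.sum_insert ha,
      qf_add (he a (Finset.mem_insert_self _ _))
        (isEven_sum s f fun c hc => he c (Finset.mem_insert_of_mem hc)),
      ih (fun c hc => he c (Finset.mem_insert_of_mem hc))
        (fun c hc c' hc' h => ho c (Finset.mem_insert_of_mem hc) c' (Finset.mem_insert_of_mem hc') h),
      dot_sum_right]
    have : ∑ c ∈ s, dot (f a) (f c) = 0 := by
      apply Finset.sum_eq_zero
      intro c hc
      apply ho a (Finset.mem_insert_self _ _) c (Finset.mem_insert_of_mem hc)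
      rintro rfl
      exact ha hc
    rw [this, add_zero]

/-- the form on a plane -/
theorem qf_plane {e f : Vec N} (he : IsEven e) (hf : IsEven f) (x y : ZMod 2) :
    qf (x • e + y • f) = x * qf e + y * qf f + x * y * dot e f := by
  rcases z2_cases x with rfl | rfl <;> rcases z2_cases y with rfl | rfl
  · simp [qf_zero]
  · simp
  · simp
  · simp only [one_smul, one_mul]
    exact qf_add he hf

/-! ### the permutation action -/

/-- permutation action on vectors -/
def pact (σ : Equiv.Perm (Fin N)) (w : Vec N) : Vec N := fun i => w (σ⁻¹ i)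

theorem pact_apply (σ : Equiv.Perm (Fin N)) (w : Vec N) (i : Fin N) :
    pact σ w i = w (σ⁻¹ i) := rfl

theorem pact_one (w : Vec N) : pact 1 w = w := by
  funext i; simp [pact]

theorem pact_mul (σ τ : Equiv.Perm (Fin N)) (w : Vec N) :
    pact (σ * τ) w = pact σ (pact τ w) := by
  funext i
  simp [pact, mul_inv_rev, Equiv.Perm.mul_apply]

theorem pact_add (σ : Equiv.Perm (Fin N)) (u v : Vec N) :
    pact σ (u + v) = pact σ u + pact σ v := by
  funext i; simp [pact]

theorem pact_smul (σ : Equiv.Perm (Fin N)) (a : ZMod 2) (u : Vec N) :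
    pact σ (a • u) = a • pact σ u := by
  funext i; simp [pact]

theorem pact_zero (σ : Equiv.Perm (Fin N)) : pact σ (0 : Vec N) = 0 := by
  funext i; simp [pact]

theorem pact_sum {ι : Type*} (σ : Equiv.Perm (Fin N)) (s : Finset ι) (f : ι → Vec N) :
    pact σ (∑ c ∈ s, f c) = ∑ c ∈ s, pact σ (f c) := by
  classical
  induction s using Finset.induction_on with
  | empty => simp [pact_zero]
  | insert a s ha ih => rw [Finset.sum_insert ha, Finset.sum_insert ha, pact_add, ih]

theorem pact_ones (σ : Equiv.Perm (Fin N)) : pact σ (ones : Vec N) = ones := by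
  funext i; simp [pact, ones]

theorem sum_pact (σ : Equiv.Perm (Fin N)) (w : Vec N) : ∑ i, pact σ w i = ∑ i, w i := by
  simp only [pact_apply]
  exact Equiv.sum_comp (σ⁻¹) w

theorem isEven_pact (σ : Equiv.Perm (Fin N)) {w : Vec N} (h : IsEven w) : IsEven (pact σ w) := by
  unfold IsEven at *
  rw [sum_pact, h]

theorem dot_pact (σ : Equiv.Perm (Fin N)) (u v : Vec N) :
    dot (pact σ u) (pact σ v) = dot u v := by
  unfold dot
  simp only [pact_apply]
  exact Equiv.sum_comp (σ⁻¹) (fun i => u i * v i)

theorem supp_pact (σ : Equiv.Perm (Fin N)) (w : Vec N) :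
    supp (pact σ w) = (supp w).map σ.toEmbedding := by
  ext i
  simp only [mem_supp, pact_apply, Finset.mem_map, Equiv.coe_toEmbedding]
  constructor
  · intro h
    exact ⟨σ⁻¹ i, h, by simp⟩
  · rintro ⟨j, hj, rfl⟩
    simpa using hj

theorem wt_pact (σ : Equiv.Perm (Fin N)) (w : Vec N) : wt (pact σ w) = wt w := by
  unfold wt
  rw [supp_pact, Finset.card_map]

theorem qf_pact (σ : Equiv.Perm (Fin N)) (w : Vec N) : qf (pact σ w) = qf w := by
  unfold qf
  rw [wt_pact]

theorem pact_ind (σ : Equiv.Perm (Fin N)) (A : Finset (Fin N)) :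
    pact σ (ind A) = ind (A.map σ.toEmbedding) := by
  rw [← ind_supp (pact σ (ind A)), supp_pact, supp_ind]

/-- adding the all-ones vector does not change the form when `4 ∣ N` -/
theorem qf_add_ones (h4 : 4 ∣ N) {w : Vec N} (hw : IsEven w) : qf (w + ones) = qf w := by
  have hN : Even N := by
    obtain ⟨m, rfl⟩ := h4
    exact ⟨2 * m, by ring⟩
  rw [qf_add hw (isEven_ones hN), dot_ones_of_even hw, add_zero]
  have : qf (ones : Vec N) = 0 := by
    rw [← ind_univ, qf_ind]
    simp only [Finset.card_univ, Fintype.card_fin]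
    obtain ⟨m, rfl⟩ := h4
    have : 4 * m / 2 = 2 * m := by omega
    rw [this]
    push_cast
    have : ((2 : ZMod 2)) = 0 := by decide
    rw [this, zero_mul]
  rw [this, add_zero]

end Cfsg.Agent.Lib.Helper5.SymOrth
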