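import Mathlib
import Cfsg.Agent.Lib.Helper5.SymOrth.Basic

/-!
# The nested chain of even sets in `Fin (4k+4)`
-/

set_option autoImplicit false

namespace Cfsg.Agent.Lib.Helper5.SymOrth

open Finset

variable {N : ℕ}

/-- initial segment `{i | i ≤ m}` -/
def Lseg (N m : ℕ) : Finset (Fin N) := univ.filter (fun i => i.val ≤ m)

/-- the point `m` (empty when `m ≥ N`) -/
def Pt (N m : ℕ) : Finset (Fin N) := univ.filter (fun i => i.val = m)

theorem mem_Lseg {m : ℕ} {i : Fin N} : i ∈ Lseg N m ↔ i.val ≤ m := by simp [Lseg]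

theorem mem_Pt {m : ℕ} {i : Fin N} : i ∈ Pt N m ↔ i.val = m := by simp [Pt]

theorem card_filter_val (p : ℕ → Prop) [DecidablePred p] :
    (univ.filter (fun i : Fin N => p i.val)).card = ((range N).filter p).card := by
  apply Finset.card_bij (fun i _ => i.val)
  · intro i hi
    simp only [Finset.mem_filter, Finset.mem_univ, true_and] at hi
    simp only [Finset.mem_filter, Finset.mem_range]
    exact ⟨i.isLt, hi⟩
  · intro i _ j _ h
    exact Fin.ext h
  · intro n hn
    simp only [Finset.mem_filter, Finset.mem_range] at hn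
    exact ⟨⟨n, hn.1⟩, by simp [hn.2], rfl⟩

theorem card_Lseg {m : ℕ} (hm : m < N) : (Lseg N m).card = m + 1 := by
  unfold Lseg
  rw [card_filter_val (fun n => n ≤ m)]
  have : (range N).filter (fun n => n ≤ m) = range (m + 1) := by
    ext n
    simp only [Finset.mem_filter, Finset.mem_range]
    omega
  rw [this, Finset.card_range]

theorem card_Pt {m : ℕ} (hm : m < N) : (Pt N m).card = 1 := by
  unfold Pt
  rw [card_filter_val (fun n => n = m)]
  have : (range N).filter (fun n => n = m) = {m} := by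
    ext n
    simp only [Finset.mem_filter, Finset.mem_range, Finset.mem_singleton]
    omega
  rw [this, Finset.card_singleton]

theorem Lseg_inter (a b : ℕ) : Lseg N a ∩ Lseg N b = Lseg N (min a b) := by
  ext i
  simp only [Finset.mem_inter, mem_Lseg]
  omega

theorem Lseg_inter_Pt (a m : ℕ) : Lseg N a ∩ Pt N m = if m ≤ a then Pt N m else ∅ := by
  ext i
  split_ifs with h
  · simp only [Finset.mem_inter, mem_Lseg, mem_Pt]
    omega
  · simp only [Finset.mem_inter, mem_Lseg, mem_Pt, Finset.notMem_empty, iff_false]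
    omega

theorem Pt_inter_Pt (m m' : ℕ) : Pt N m ∩ Pt N m' = if m = m' then Pt N m else ∅ := by
  ext i
  split_ifs with h
  · simp only [Finset.mem_inter, mem_Pt]
    omega
  · simp only [Finset.mem_inter, mem_Pt, Finset.notMem_empty, iff_false]
    omega

/-- the segment vector -/
def lv (N m : ℕ) : Vec N := ind (Lseg N m)

/-- the point vector -/
def pv (N m : ℕ) : Vec N := ind (Pt N m)

theorem dot_lv_lv {a b : ℕ} (ha : a < N) (hb : b < N) :
    dot (lv N a) (lv N b) = ((min a b + 1 : ℕ) : ZMod 2) := by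
  unfold lv
  rw [dot_ind, Lseg_inter, card_Lseg]
  omega

theorem dot_lv_pv (a : ℕ) {m : ℕ} (hm : m < N) :
    dot (lv N a) (pv N m) = if m ≤ a then 1 else 0 := by
  unfold lv pv
  rw [dot_ind, Lseg_inter_Pt]
  split_ifs with h
  · rw [card_Pt hm]; simp
  · simp

theorem dot_pv_lv (a : ℕ) {m : ℕ} (hm : m < N) :
    dot (pv N m) (lv N a) = if m ≤ a then 1 else 0 := by
  rw [dot_comm, dot_lv_pv a hm]

theorem dot_pv_pv {m : ℕ} (m' : ℕ) (hm : m < N) :
    dot (pv N m) (pv N m') = if m = m' then 1 else 0 := by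
  unfold pv
  rw [dot_ind, Pt_inter_Pt]
  split_ifs with h
  · rw [card_Pt hm]; simp
  · simp

theorem sum_lv {a : ℕ} (ha : a < N) : ∑ i, lv N a i = ((a + 1 : ℕ) : ZMod 2) := by
  unfold lv
  rw [sum_ind, card_Lseg ha]

theorem sum_pv {m : ℕ} (hm : m < N) : ∑ i, pv N m i = 1 := by
  unfold pv
  rw [sum_ind, card_Pt hm]; simp

theorem lv_succ (m : ℕ) : lv N (m + 1) = lv N m + pv N (m + 1) := by
  unfold lv pv
  rw [← ind_union_of_disjoint]
  · congr 1
    ext i
    simp only [mem_Lseg, Finset.mem_union, mem_Pt]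
    omega
  · rw [Finset.disjoint_left]
    intro i hi hi'
    rw [mem_Lseg] at hi
    rw [mem_Pt] at hi'
    omega

theorem lv_zero : lv N 0 = pv N 0 := by
  unfold lv pv
  congr 1
  ext i
  simp only [mem_Lseg, mem_Pt]
  omega

theorem lv_top {m : ℕ} (hm : N ≤ m + 1) : lv N m = ones := by
  unfold lv
  rw [← ind_univ]
  congr 1
  ext i
  simp only [mem_Lseg, Finset.mem_univ, iff_true]
  have := i.isLt
  omega

theorem pv_apply {m : ℕ} (i : Fin N) : pv N m i = if i.val = m then 1 else 0 := by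
  unfold pv
  rw [ind_apply]
  simp only [mem_Pt]

theorem dot_pv_right (w : Vec N) (i : Fin N) : dot w (pv N i.val) = w i := by
  unfold dot
  rw [Finset.sum_eq_single i]
  · rw [pv_apply, if_pos rfl, mul_one]
  · intro j _ hj
    rw [pv_apply, if_neg, mul_zero]
    intro h
    exact hj (Fin.ext h)
  · intro h
    exact absurd (Finset.mem_univ i) h

/-! ### the vectors `u j`, `v j`, `zz` -/

/-- `U_j = [0, 2j+1]` -/
def uu (N j : ℕ) : Vec N := lv N (2 * j + 1)

/-- `V_j = [0, 2j] ∪ {2j+2}` -/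
def vv (N j : ℕ) : Vec N := lv N (2 * j) + pv N (2 * j + 2)

theorem vv_eq (j : ℕ) : vv N j = uu N j + (pv N (2 * j + 1) + pv N (2 * j + 2)) := by
  unfold vv uu
  rw [lv_succ]
  funext i
  simp only [Pi.add_apply]
  have := z2_add_self (pv N (2 * j + 1) i)
  calc lv N (2 * j) i + pv N (2 * j + 2) i
      = lv N (2 * j) i + (pv N (2 * j + 1) i + pv N (2 * j + 1) i) + pv N (2 * j + 2) i := by
        rw [this, add_zero]
    _ = _ := by ring

end Cfsg.Agent.Lib.Helper5.SymOrth
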