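import Mathlib
import Cfsg.Agent.Lib.Helper5.SymOrth.Chain

/-!
# Gram relations of the chain vectors in `Fin (4k+4)`
-/

set_option autoImplicit false

namespace Cfsg.Agent.Lib.Helper5.SymOrth

open Finset

variable (k : ℕ)

local notation "NN" => 4 * k + 4

/-- the parity fixer `{N-2, N-1}` -/
def zz : Vec NN := pv NN (4 * k + 2) + pv NN (4 * k + 3)

/-- `ε_j = 1` iff `j` is even -/
def eps (j : ℕ) : ZMod 2 := ((j + 1 : ℕ) : ZMod 2)

theorem z2_cast_succ_succ (n : ℕ) : ((n + 2 : ℕ) : ZMod 2) = (n : ZMod 2) := by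
  push_cast
  have : (2 : ZMod 2) = 0 := by decide
  rw [this, add_zero]

theorem z2_cast_two_mul (n : ℕ) : ((2 * n : ℕ) : ZMod 2) = 0 :=
  z2_cast_even ⟨n, by ring⟩

theorem z2_cast_two_mul_add_one (n : ℕ) : ((2 * n + 1 : ℕ) : ZMod 2) = 1 :=
  z2_cast_odd ⟨n, rfl⟩

theorem z2_cast_two_mul_add_two (n : ℕ) : ((2 * n + 2 : ℕ) : ZMod 2) = 0 :=
  z2_cast_even ⟨n + 1, by ring⟩

variable {k}

theorem dot_uu_uu {i j : ℕ} (hi : i ≤ 2 * k) (hj : j ≤ 2 * k) :
    dot (uu NN i) (uu NN j) = 0 := by
  unfold uu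
  rw [dot_lv_lv (by omega) (by omega)]
  rcases le_total i j with h | h
  · rw [min_eq_left (by omega)]
    exact z2_cast_two_mul_add_two i
  · rw [min_eq_right (by omega)]
    exact z2_cast_two_mul_add_two j

theorem dot_uu_vv {i j : ℕ} (hi : i ≤ 2 * k) (hj : j ≤ 2 * k) :
    dot (uu NN i) (vv NN j) = if i = j then 1 else 0 := by
  unfold uu vv
  rw [dot_add_right, dot_lv_lv (by omega) (by omega), dot_lv_pv _ (by omega)]
  rcases lt_trichotomy i j with h | h | h
  · rw [min_eq_left (by omega), if_neg (by omega), if_neg (by omega), add_zero]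
    exact z2_cast_two_mul_add_two i
  · subst h
    rw [min_eq_right (by omega), if_neg (by omega), if_pos rfl, add_zero]
    exact z2_cast_two_mul_add_one i
  · rw [min_eq_right (by omega), if_pos (by omega), if_neg (by omega),
      z2_cast_two_mul_add_one j]
    decide

theorem dot_vv_uu {i j : ℕ} (hi : i ≤ 2 * k) (hj : j ≤ 2 * k) :
    dot (vv NN i) (uu NN j) = if i = j then 1 else 0 := by
  rw [dot_comm, dot_uu_vv hj hi]
  by_cases h : i = j
  · rw [if_pos h, if_pos h.symm]
  · rw [if_neg h, if_neg (Ne.symm h)]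

theorem dot_vv_vv {i j : ℕ} (hi : i ≤ 2 * k) (hj : j ≤ 2 * k) :
    dot (vv NN i) (vv NN j) = 0 := by
  unfold vv
  rw [dot_add_left, dot_add_right, dot_add_right, dot_lv_lv (by omega) (by omega),
    dot_lv_pv _ (by omega), dot_pv_lv _ (by omega), dot_pv_pv _ (by omega)]
  rcases lt_trichotomy i j with h | h | h
  · rw [min_eq_left (by omega), if_neg (by omega), if_pos (by omega), if_neg (by omega),
      z2_cast_two_mul_add_one i]
    decide
  · subst h
    rw [min_eq_left (by omega), if_neg (by omega), if_pos rfl,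
      z2_cast_two_mul_add_one i]
    decide
  · rw [min_eq_right (by omega), if_pos (by omega), if_neg (by omega), if_neg (by omega),
      z2_cast_two_mul_add_one j]
    decide

theorem dot_zz_uu {j : ℕ} (hj : j ≤ 2 * k) : dot (zz k) (uu NN j) = 0 := by
  unfold zz uu
  rw [dot_add_left, dot_pv_lv _ (by omega), dot_pv_lv _ (by omega), if_neg (by omega),
    if_neg (by omega), add_zero]

theorem dot_uu_zz {j : ℕ} (hj : j ≤ 2 * k) : dot (uu NN j) (zz k) = 0 := by
  rw [dot_comm, dot_zz_uu hj]

theorem dot_zz_vv {j : ℕ} (hj : j ≤ 2 * k) :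
    dot (zz k) (vv NN j) = if j = 2 * k then 1 else 0 := by
  unfold zz vv
  rw [dot_add_left, dot_add_right, dot_add_right, dot_pv_lv _ (by omega), dot_pv_lv _ (by omega),
    dot_pv_pv _ (by omega), dot_pv_pv _ (by omega)]
  have h1 : ¬ (4 * k + 2 ≤ 2 * j) := by omega
  have h2 : ¬ (4 * k + 3 ≤ 2 * j) := by omega
  have h3 : ¬ (4 * k + 3 = 2 * j + 2) := by omega
  rw [if_neg h1, if_neg h2, if_neg h3]
  by_cases h : j = 2 * k
  · have h4 : 4 * k + 2 = 2 * j + 2 := by omega
    rw [if_pos h4, if_pos h]; simp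
  · have h4 : ¬ (4 * k + 2 = 2 * j + 2) := by omega
    rw [if_neg h4, if_neg h]; simp

theorem dot_vv_zz {j : ℕ} (hj : j ≤ 2 * k) :
    dot (vv NN j) (zz k) = if j = 2 * k then 1 else 0 := by
  rw [dot_comm, dot_zz_vv hj]

theorem dot_zz_zz : dot (zz k) (zz k) = 0 := by
  unfold zz
  rw [dot_add_left, dot_add_right, dot_add_right, dot_pv_pv _ (by omega), dot_pv_pv _ (by omega),
    dot_pv_pv _ (by omega), dot_pv_pv _ (by omega), if_pos rfl, if_pos rfl, if_neg (by omega),
    if_neg (by omega)]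
  decide

theorem isEven_uu {j : ℕ} (hj : j ≤ 2 * k) : IsEven (uu NN j) := by
  unfold IsEven uu
  rw [sum_lv (by omega)]
  exact z2_cast_two_mul_add_two j

theorem isEven_vv {j : ℕ} (hj : j ≤ 2 * k) : IsEven (vv NN j) := by
  unfold IsEven vv
  simp only [Pi.add_apply]
  rw [Finset.sum_add_distrib, sum_lv (by omega), sum_pv (by omega), z2_cast_two_mul_add_one]
  decide

theorem isEven_zz : IsEven (zz k) := by
  unfold IsEven zz
  simp only [Pi.add_apply]
  rw [Finset.sum_add_distrib, sum_pv (by omega), sum_pv (by omega)]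
  decide

theorem qf_uu {j : ℕ} (hj : j ≤ 2 * k) : qf (uu NN j) = eps j := by
  unfold uu lv eps
  rw [qf_ind, card_Lseg (by omega)]
  congr 1
  omega

/-- two distinct points -/
theorem qf_two_points {N m m' : ℕ} (hm : m < N) (hm' : m' < N) (hne : m ≠ m') :
    qf (pv N m + pv N m') = 1 := by
  unfold pv
  have hd : Disjoint (Pt N m) (Pt N m') := by
    rw [Finset.disjoint_left]
    intro i hi hi'
    rw [mem_Pt] at hi hi'
    omega
  rw [← ind_union_of_disjoint hd, qf_ind, Finset.card_union_of_disjoint hd, card_Pt hm,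
    card_Pt hm']
  simp

theorem qf_zz : qf (zz k) = 1 := by
  unfold zz
  exact qf_two_points (by omega) (by omega) (by omega)

theorem isEven_two_points {N m m' : ℕ} (hm : m < N) (hm' : m' < N) :
    IsEven (pv N m + pv N m') := by
  unfold IsEven
  simp only [Pi.add_apply]
  rw [Finset.sum_add_distrib, sum_pv hm, sum_pv hm']
  decide

theorem qf_vv {j : ℕ} (hj : j ≤ 2 * k) : qf (vv NN j) = eps j := by
  rw [vv_eq, qf_add (isEven_uu hj) (isEven_two_points (by omega) (by omega)), qf_uu hj,
    qf_two_points (by omega) (by omega) (by omega)]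
  unfold uu
  rw [dot_add_right, dot_lv_pv _ (by omega), dot_lv_pv _ (by omega), if_pos le_rfl,
    if_neg (by omega), add_zero, add_assoc]
  have : (1 : ZMod 2) + 1 = 0 := by decide
  rw [this, add_zero]

/-- `U_{2k}` is the complement of `zz` -/
theorem uu_top : uu NN (2 * k) + zz k = ones := by
  unfold uu zz
  have e1 : pv NN (4 * k + 2) = pv NN ((2 * (2 * k) + 1) + 1) := by
    congr 1; ring
  have e2 : pv NN (4 * k + 3) = pv NN (((2 * (2 * k) + 1) + 1) + 1) := by
    congr 1; ring
  rw [e1, e2, ← add_assoc, ← lv_succ, ← lv_succ]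
  apply lv_top
  omega

/-! ### the key lemma -/

theorem key_chain {w : Vec NN} (hw : IsEven w)
    (hu : ∀ j, j ≤ 2 * k → dot w (uu NN j) = 0) (hv : ∀ j, j ≤ 2 * k → dot w (vv NN j) = 0) :
    w = 0 ∨ w = ones := by
  set a : ℕ → ZMod 2 := fun m => dot w (pv NN m) with ha
  set s : ℕ → ZMod 2 := fun m => dot w (lv NN m) with hs
  have hs0 : s 0 = a 0 := by
    simp only [hs, ha, lv_zero]
  have hss : ∀ m, s (m + 1) = s m + a (m + 1) := by
    intro m
    simp only [hs, ha, lv_succ, dot_add_right]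
  have hU : ∀ j, j ≤ 2 * k → s (2 * j + 1) = 0 := fun j hj => hu j hj
  have hV : ∀ j, j ≤ 2 * k → s (2 * j) + a (2 * j + 2) = 0 := by
    intro j hj
    have := hv j hj
    unfold vv at this
    rw [dot_add_right] at this
    exact this
  have hP : ∀ j, j ≤ 2 * k → s (2 * j) = a 0 ∧ a (2 * j + 1) = a 0 ∧ a (2 * j + 2) = a 0 := by
    intro j
    induction j with
    | zero =>
      intro _
      refine ⟨hs0, ?_, ?_⟩
      · have h1 := hU 0 (by omega)
        rw [show 2 * 0 + 1 = 0 + 1 from rfl, hss 0, hs0] at h1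
        exact (z2_eq_of_add_eq_zero h1).symm
      · have h1 := hV 0 (by omega)
        rw [show 2 * 0 = 0 from rfl, hs0] at h1
        exact (z2_eq_of_add_eq_zero h1).symm
    | succ j ih =>
      intro hj
      obtain ⟨h1, h2, h3⟩ := ih (by omega)
      have e1 : s (2 * (j + 1)) = a 0 := by
        rw [show 2 * (j + 1) = (2 * j + 1) + 1 by ring, hss, hU j (by omega), zero_add]
        exact h3
      refine ⟨e1, ?_, ?_⟩
      · have h4 := hU (j + 1) hj
        rw [hss, e1] at h4
        exact (z2_eq_of_add_eq_zero h4).symm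
      · have h4 := hV (j + 1) hj
        rw [e1] at h4
        exact (z2_eq_of_add_eq_zero h4).symm
  have hall : ∀ m, m ≤ 4 * k + 2 → a m = a 0 := by
    intro m hm
    rcases Nat.even_or_odd' m with ⟨j, rfl | rfl⟩
    · rcases j with _ | j
      · rfl
      · have := (hP j (by omega)).2.2
        rw [show 2 * (j + 1) = 2 * j + 2 by ring]
        exact this
    · exact (hP j (by omega)).2.1
  have hlast : a (4 * k + 3) = a 0 := by
    have h1 : s (4 * k + 3) = 0 := by
      simp only [hs]
      rw [lv_top (by omega)]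
      exact dot_ones_of_even hw
    have h2 : s (4 * k + 3) = s (4 * k + 2) + a (4 * k + 3) := hss (4 * k + 2)
    have h3 : s (4 * k + 2) = s (4 * k + 1) + a (4 * k + 2) := hss (4 * k + 1)
    have h4 : s (4 * k + 1) = 0 := by
      have := hU (2 * k) le_rfl
      rw [show 2 * (2 * k) + 1 = 4 * k + 1 by ring] at this
      exact this
    have h5 : a (4 * k + 2) = a 0 := hall _ (by omega)
    rw [h2, h3, h4, h5, zero_add] at h1
    exact (z2_eq_of_add_eq_zero h1).symm
  have hw' : ∀ i : Fin NN, w i = a 0 := by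
    intro i
    rw [← dot_pv_right w i]
    have hi := i.isLt
    by_cases h : i.val ≤ 4 * k + 2
    · exact hall _ h
    · have : i.val = 4 * k + 3 := by omega
      rw [this]
      exact hlast
  rcases z2_cases (a 0) with h | h
  · left
    funext i
    rw [hw', h]; rfl
  · right
    funext i
    rw [hw', h]; rfl

end Cfsg.Agent.Lib.Helper5.SymOrth
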