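import Mathlib
import Cfsg.Agent.Lib.Helper5.SymOrth.Gram

/-!
# The hyperbolic family built from the chain
-/

set_option autoImplicit false

namespace Cfsg.Agent.Lib.Helper5.SymOrth

open Finset

/-- the form on a sum of pairwise orthogonal hyperbolic planes -/
theorem qf_hyp_sum {N m : ℕ} (e f : Fin m → Vec N) (he : ∀ i, IsEven (e i))
    (hf : ∀ i, IsEven (f i))
    (hee : ∀ i j, dot (e i) (e j) = 0) (hff : ∀ i j, dot (f i) (f j) = 0)
    (hef : ∀ i j, dot (e i) (f j) = if i = j then 1 else 0)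
    (hqe : ∀ i, qf (e i) = 0) (hqf : ∀ i, qf (f i) = 0) (x y : Fin m → ZMod 2) :
    qf (∑ i, (x i • e i + y i • f i)) = ∑ i, x i * y i := by
  rw [qf_sum_orth]
  · refine Finset.sum_congr rfl fun i _ => ?_
    rw [qf_plane (he i) (hf i), hqe, hqf, hef, if_pos rfl]
    ring
  · intro i _
    exact ((he i).smul _).add ((hf i).smul _)
  · intro i _ j _ hij
    have hfe : dot (f i) (e j) = 0 := by
      rw [dot_comm, hef, if_neg (Ne.symm hij)]
    simp only [dot_add_left, dot_add_right, dot_smul_left, dot_smul_right, hee, hff, hef,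
      if_neg hij, hfe]
    ring

theorem isEven_hyp_sum {N m : ℕ} (e f : Fin m → Vec N) (he : ∀ i, IsEven (e i))
    (hf : ∀ i, IsEven (f i)) (x y : Fin m → ZMod 2) :
    IsEven (∑ i, (x i • e i + y i • f i)) :=
  isEven_sum _ _ fun i _ => ((he i).smul _).add ((hf i).smul _)

theorem dot_hyp_sum {N m : ℕ} (e f : Fin m → Vec N) (x y : Fin m → ZMod 2) (w : Vec N)
    (he : ∀ i, dot (e i) w = 0) (hf : ∀ i, dot (f i) w = 0) :
    dot (∑ i, (x i • e i + y i • f i)) w = 0 := by
  rw [dot_sum_left]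
  apply Finset.sum_eq_zero
  intro i _
  rw [dot_add_left, dot_smul_left, dot_smul_left, he, hf]
  ring

variable (k : ℕ)

local notation "NN" => 4 * k + 4

/-- `D_j = U_j + V_j` -/
def dd (j : ℕ) : Vec NN := uu NN j + vv NN j

/-- the last vector -/
def ww : Vec NN := ∑ t ∈ range (k + 1), dd k (2 * t)

/-- `E_j` -/
def ee (j : ℕ) : Vec NN := uu NN j + eps j • zz k

/-- `F_j` -/
def ff (j : ℕ) : Vec NN := vv NN j + eps j • zz k

variable {k}

theorem eps_add_self (j : ℕ) : eps j + eps j = 0 := z2_add_self _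

theorem eps_two_mul (t : ℕ) : eps (2 * t) = 1 := by
  unfold eps
  exact z2_cast_two_mul_add_one t

theorem eps_two_mul_add_one (t : ℕ) : eps (2 * t + 1) = 0 := by
  unfold eps
  exact z2_cast_two_mul_add_two t

theorem isEven_dd {j : ℕ} (hj : j ≤ 2 * k) : IsEven (dd k j) :=
  (isEven_uu hj).add (isEven_vv hj)

theorem isEven_ww : IsEven (ww k) := by
  unfold ww
  apply isEven_sum
  intro t ht
  rw [Finset.mem_range] at ht
  exact isEven_dd (by omega)

theorem isEven_ee {j : ℕ} (hj : j ≤ 2 * k) : IsEven (ee k j) :=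
  (isEven_uu hj).add (isEven_zz.smul _)

theorem isEven_ff {j : ℕ} (hj : j ≤ 2 * k) : IsEven (ff k j) :=
  (isEven_vv hj).add (isEven_zz.smul _)

theorem dot_dd_uu {i j : ℕ} (hi : i ≤ 2 * k) (hj : j ≤ 2 * k) :
    dot (dd k i) (uu NN j) = if i = j then 1 else 0 := by
  unfold dd
  rw [dot_add_left, dot_uu_uu hi hj, dot_vv_uu hi hj, zero_add]

theorem dot_dd_vv {i j : ℕ} (hi : i ≤ 2 * k) (hj : j ≤ 2 * k) :
    dot (dd k i) (vv NN j) = if i = j then 1 else 0 := by
  unfold dd
  rw [dot_add_left, dot_uu_vv hi hj, dot_vv_vv hi hj, add_zero]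

theorem dot_dd_zz {i : ℕ} (hi : i ≤ 2 * k) :
    dot (dd k i) (zz k) = if i = 2 * k then 1 else 0 := by
  unfold dd
  rw [dot_add_left, dot_uu_zz hi, dot_vv_zz hi, zero_add]

theorem dot_dd_dd {i j : ℕ} (hi : i ≤ 2 * k) (hj : j ≤ 2 * k) :
    dot (dd k i) (dd k j) = 0 := by
  conv_lhs => rw [dd.eq_def k j]
  rw [dot_add_right, dot_dd_uu hi hj, dot_dd_vv hi hj]
  exact z2_add_self _

theorem qf_dd {j : ℕ} (hj : j ≤ 2 * k) : qf (dd k j) = 1 := by
  unfold dd
  rw [qf_add (isEven_uu hj) (isEven_vv hj), qf_uu hj, qf_vv hj, dot_uu_vv hj hj, if_pos rfl,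
    eps_add_self, zero_add]

/-- the sum over even indices -/
theorem sum_even_ind {j : ℕ} (hj : j ≤ 2 * k) :
    (∑ t ∈ range (k + 1), if 2 * t = j then (1 : ZMod 2) else 0) = eps j := by
  rcases Nat.even_or_odd' j with ⟨t₀, rfl | rfl⟩
  · rw [Finset.sum_eq_single t₀]
    · rw [if_pos rfl, eps_two_mul]
    · intro t _ ht
      rw [if_neg]
      omega
    · intro h
      exfalso
      apply h
      rw [Finset.mem_range]
      omega
  · rw [eps_two_mul_add_one]
    apply Finset.sum_eq_zero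
    intro t _
    rw [if_neg]
    omega

theorem dot_ww_uu {j : ℕ} (hj : j ≤ 2 * k) : dot (ww k) (uu NN j) = eps j := by
  unfold ww
  rw [dot_sum_left, ← sum_even_ind hj]
  refine Finset.sum_congr rfl fun t ht => ?_
  rw [Finset.mem_range] at ht
  exact dot_dd_uu (by omega) hj

theorem dot_ww_vv {j : ℕ} (hj : j ≤ 2 * k) : dot (ww k) (vv NN j) = eps j := by
  unfold ww
  rw [dot_sum_left, ← sum_even_ind hj]
  refine Finset.sum_congr rfl fun t ht => ?_
  rw [Finset.mem_range] at ht
  exact dot_dd_vv (by omega) hj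

theorem dot_ww_zz : dot (ww k) (zz k) = 1 := by
  unfold ww
  rw [dot_sum_left]
  have : ∀ t ∈ range (k + 1), dot (dd k (2 * t)) (zz k) = if t = k then 1 else 0 := by
    intro t ht
    rw [Finset.mem_range] at ht
    rw [dot_dd_zz (by omega)]
    by_cases h : t = k
    · rw [if_pos h, if_pos (by omega)]
    · rw [if_neg h, if_neg (by omega)]
  rw [Finset.sum_congr rfl this, Finset.sum_ite_eq']
  rw [if_pos]
  rw [Finset.mem_range]
  omega

theorem qf_ww : qf (ww k) = ((k + 1 : ℕ) : ZMod 2) := by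
  unfold ww
  rw [qf_sum_orth]
  · have : ∀ t ∈ range (k + 1), qf (dd k (2 * t)) = 1 := by
      intro t ht
      rw [Finset.mem_range] at ht
      exact qf_dd (by omega)
    rw [Finset.sum_congr rfl this]
    simp
  · intro t ht
    rw [Finset.mem_range] at ht
    exact isEven_dd (by omega)
  · intro t ht t' ht' _
    rw [Finset.mem_range] at ht ht'
    exact dot_dd_dd (by omega) (by omega)

theorem qf_smul_zz (a : ZMod 2) : qf (a • zz k) = a := by
  rcases z2_cases a with rfl | rfl
  · rw [zero_smul, qf_zero]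
  · rw [one_smul, qf_zz]

theorem qf_ee {j : ℕ} (hj : j < 2 * k) : qf (ee k j) = 0 := by
  unfold ee
  rw [qf_add (isEven_uu hj.le) (isEven_zz.smul _), qf_uu hj.le, qf_smul_zz, dot_smul_right,
    dot_uu_zz hj.le, mul_zero, add_zero, eps_add_self]

theorem qf_ff {j : ℕ} (hj : j < 2 * k) : qf (ff k j) = 0 := by
  unfold ff
  rw [qf_add (isEven_vv hj.le) (isEven_zz.smul _), qf_vv hj.le, qf_smul_zz, dot_smul_right,
    dot_vv_zz hj.le, if_neg (by omega), mul_zero, add_zero, eps_add_self]

theorem dot_ee_ee {i j : ℕ} (hi : i < 2 * k) (hj : j < 2 * k) : dot (ee k i) (ee k j) = 0 := by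
  unfold ee
  rw [dot_add_left, dot_add_right, dot_add_right, dot_smul_left, dot_smul_left, dot_smul_right,
    dot_smul_right, dot_uu_uu hi.le hj.le, dot_uu_zz hi.le, dot_zz_uu hj.le, dot_zz_zz]
  ring

theorem dot_ff_ff {i j : ℕ} (hi : i < 2 * k) (hj : j < 2 * k) : dot (ff k i) (ff k j) = 0 := by
  unfold ff
  rw [dot_add_left, dot_add_right, dot_add_right, dot_smul_left, dot_smul_left, dot_smul_right,
    dot_smul_right, dot_vv_vv hi.le hj.le, dot_vv_zz hi.le, dot_zz_vv hj.le, dot_zz_zz,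
    if_neg (by omega), if_neg (by omega)]
  ring

theorem dot_ee_ff {i j : ℕ} (hi : i < 2 * k) (hj : j < 2 * k) :
    dot (ee k i) (ff k j) = if i = j then 1 else 0 := by
  unfold ee ff
  rw [dot_add_left, dot_add_right, dot_add_right, dot_smul_left, dot_smul_left, dot_smul_right,
    dot_smul_right, dot_uu_vv hi.le hj.le, dot_uu_zz hi.le, dot_zz_vv hj.le, dot_zz_zz,
    if_neg (show ¬ (j = 2 * k) by omega)]
  ring

theorem dot_ff_ee {i j : ℕ} (hi : i < 2 * k) (hj : j < 2 * k) :
    dot (ff k i) (ee k j) = if i = j then 1 else 0 := by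
  rw [dot_comm, dot_ee_ff hj hi]
  by_cases h : i = j
  · rw [if_pos h, if_pos h.symm]
  · rw [if_neg h, if_neg (Ne.symm h)]

theorem dot_zz_ee {j : ℕ} (hj : j < 2 * k) : dot (zz k) (ee k j) = 0 := by
  unfold ee
  rw [dot_add_right, dot_smul_right, dot_zz_uu hj.le, dot_zz_zz]
  ring

theorem dot_zz_ff {j : ℕ} (hj : j < 2 * k) : dot (zz k) (ff k j) = 0 := by
  unfold ff
  rw [dot_add_right, dot_smul_right, dot_zz_vv hj.le, dot_zz_zz, if_neg (by omega)]
  ring

theorem dot_ww_ee {j : ℕ} (hj : j < 2 * k) : dot (ww k) (ee k j) = 0 := by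
  unfold ee
  rw [dot_add_right, dot_smul_right, dot_ww_uu hj.le, dot_ww_zz, mul_one, eps_add_self]

theorem dot_ww_ff {j : ℕ} (hj : j < 2 * k) : dot (ww k) (ff k j) = 0 := by
  unfold ff
  rw [dot_add_right, dot_smul_right, dot_ww_vv hj.le, dot_ww_zz, mul_one, eps_add_self]

theorem dot_ww_ww : dot (ww k) (ww k) = 0 := dot_self_of_even isEven_ww

/-- the key lemma for the family -/
theorem key_family {w : Vec NN} (hw : IsEven w) (hz : dot w (zz k) = 0) (hww : dot w (ww k) = 0)
    (he : ∀ j, j < 2 * k → dot w (ee k j) = 0) (hf : ∀ j, j < 2 * k → dot w (ff k j) = 0) :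
    w = 0 ∨ w = ones := by
  have hu : ∀ j, j < 2 * k → dot w (uu NN j) = 0 := by
    intro j hj
    have := he j hj
    unfold ee at this
    rw [dot_add_right, dot_smul_right, hz, mul_zero, add_zero] at this
    exact this
  have hv : ∀ j, j < 2 * k → dot w (vv NN j) = 0 := by
    intro j hj
    have := hf j hj
    unfold ff at this
    rw [dot_add_right, dot_smul_right, hz, mul_zero, add_zero] at this
    exact this
  have hutop : dot w (uu NN (2 * k)) = 0 := by
    have h1 : uu NN (2 * k) = ones + zz k := by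
      rw [← uu_top (k := k), add_assoc]
      funext i
      simp only [Pi.add_apply]
      rw [z2_add_self, add_zero]
    rw [h1, dot_add_right, dot_ones_of_even hw, hz, add_zero]
  have hvtop : dot w (vv NN (2 * k)) = 0 := by
    have h1 := hww
    unfold ww at h1
    rw [dot_sum_right, Finset.sum_range_succ] at h1
    have h2 : ∑ t ∈ range k, dot w (dd k (2 * t)) = 0 := by
      apply Finset.sum_eq_zero
      intro t ht
      rw [Finset.mem_range] at ht
      unfold dd
      rw [dot_add_right, hu _ (by omega), hv _ (by omega), add_zero]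
    rw [h2, zero_add] at h1
    unfold dd at h1
    rw [dot_add_right, hutop, zero_add] at h1
    exact h1
  apply key_chain hw
  · intro j hj
    rcases Nat.lt_or_ge j (2 * k) with h | h
    · exact hu j h
    · have : j = 2 * k := by omega
      rw [this]; exact hutop
  · intro j hj
    rcases Nat.lt_or_ge j (2 * k) with h | h
    · exact hv j h
    · have : j = 2 * k := by omega
      rw [this]; exact hvtop

end Cfsg.Agent.Lib.Helper5.SymOrth
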