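import Mathlib
import Cfsg.Prelude.Def_Classical
import Cfsg.Agent.Lib.Helper5.SymOrth.Basic

/-!
# From a hyperbolic frame of even vectors to an embedding of the symmetric group
-/

set_option autoImplicit false
set_option linter.unusedSectionVars false

namespace Cfsg.Agent.Lib.Helper5.SymOrth

open Finset Matrix

section Frame

variable {N : ℕ} {ι : Type} [Fintype ι] [DecidableEq ι]
variable (S : ι → Vec N) (par : ι → ι)

/-- the synthesis map -/
def Tmap (x : ι → ZMod 2) : Vec N := ∑ c, x c • S c

/-- the analysis map -/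
def Pmap (w : Vec N) : ι → ZMod 2 := fun c => dot w (S (par c))

/-- the matrix of a permutation -/
def Mmat (σ : Equiv.Perm (Fin N)) : Matrix ι ι (ZMod 2) :=
  fun c c' => dot (pact σ (S c')) (S (par c))

theorem dot_Tmap (x : ι → ZMod 2) (w : Vec N) : dot (Tmap S x) w = ∑ c, x c * dot (S c) w := by
  unfold Tmap
  rw [dot_sum_left]
  exact Finset.sum_congr rfl fun c _ => dot_smul_left _ _ _

theorem pact_Tmap (σ : Equiv.Perm (Fin N)) (x : ι → ZMod 2) :
    pact σ (Tmap S x) = ∑ c, x c • pact σ (S c) := by
  unfold Tmap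
  rw [pact_sum]
  exact Finset.sum_congr rfl fun c _ => pact_smul _ _ _

theorem Mmat_mulVec (σ : Equiv.Perm (Fin N)) (x : ι → ZMod 2) :
    Mmat S par σ *ᵥ x = Pmap S par (pact σ (Tmap S x)) := by
  funext c
  unfold Pmap
  rw [pact_Tmap, dot_sum_left]
  simp only [Matrix.mulVec, dotProduct, Mmat]
  refine Finset.sum_congr rfl fun c' _ => ?_
  rw [dot_smul_left, mul_comm]

variable {S par}
variable (hpar : ∀ c, par (par c) = c) (hE : ∀ c, IsEven (S c))
  (hG : ∀ c c', dot (S c) (S c') = if c' = par c then 1 else 0)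

include hpar in
theorem par_injective : Function.Injective par := by
  intro a b h
  rw [← hpar a, ← hpar b, h]

include hpar hG in
theorem Pmap_Tmap (x : ι → ZMod 2) : Pmap S par (Tmap S x) = x := by
  funext c
  unfold Pmap
  rw [dot_Tmap]
  simp only [hG]
  rw [Finset.sum_eq_single c]
  · rw [if_pos rfl, mul_one]
  · intro b _ hb
    rw [if_neg, mul_zero]
    intro h
    exact hb (par_injective hpar h).symm
  · intro h
    exact absurd (Finset.mem_univ c) h

include hpar hG in
theorem dot_Tmap_S (x : ι → ZMod 2) (c : ι) : dot (Tmap S x) (S c) = x (par c) := by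
  rw [dot_Tmap]
  simp only [hG]
  rw [Finset.sum_eq_single (par c)]
  · rw [if_pos (hpar c).symm, mul_one]
  · intro b _ hb
    rw [if_neg, mul_zero]
    intro h
    apply hb
    rw [h, hpar]
  · intro h
    exact absurd (Finset.mem_univ _) h

include hE in
theorem isEven_Tmap (x : ι → ZMod 2) : IsEven (Tmap S x) := by
  unfold Tmap
  exact isEven_sum _ _ fun c _ => (hE c).smul _

include hE in
theorem Pmap_add_ones (w : Vec N) : Pmap S par (w + ones) = Pmap S par w := by
  funext c
  unfold Pmap
  rw [dot_add_left, dot_comm ones, dot_ones_of_even (hE _), add_zero]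

variable (hK : ∀ w : Vec N, IsEven w → (∀ c, dot w (S c) = 0) → w = 0 ∨ w = ones)

include hpar hE hG hK in
theorem Tmap_Pmap {w : Vec N} (hw : IsEven w) :
    Tmap S (Pmap S par w) = w ∨ Tmap S (Pmap S par w) = w + ones := by
  have hd : IsEven (Tmap S (Pmap S par w) + w) := (isEven_Tmap hE _).add hw
  have h0 : ∀ c, dot (Tmap S (Pmap S par w) + w) (S c) = 0 := by
    intro c
    rw [dot_add_left, dot_Tmap_S hpar hG]
    unfold Pmap
    rw [hpar]
    exact z2_add_self _
  rcases hK _ hd h0 with h | h
  · left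
    funext i
    have := congrFun h i
    simp only [Pi.add_apply, Pi.zero_apply] at this
    exact z2_eq_of_add_eq_zero this
  · right
    funext i
    have := congrFun h i
    simp only [Pi.add_apply] at this ⊢
    rw [← this, add_comm (Tmap S (Pmap S par w) i), ← add_assoc, z2_add_self, zero_add]

include hpar hE hG hK in
theorem Pmap_pact_Tmap_Pmap (σ : Equiv.Perm (Fin N)) {w : Vec N} (hw : IsEven w) :
    Pmap S par (pact σ (Tmap S (Pmap S par w))) = Pmap S par (pact σ w) := by
  rcases Tmap_Pmap hpar hE hG hK hw with h | h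
  · rw [h]
  · rw [h, pact_add, pact_ones, Pmap_add_ones hE]

include hpar hG in
theorem Mmat_one : Mmat S par (1 : Equiv.Perm (Fin N)) = 1 := by
  ext c c'
  unfold Mmat
  rw [pact_one, hG, Matrix.one_apply]
  by_cases h : c = c'
  · subst h
    rw [if_pos rfl, if_pos rfl]
  · rw [if_neg h, if_neg]
    intro h'
    exact h (par_injective hpar h')

include hpar hE hG hK in
theorem Mmat_mul (σ τ : Equiv.Perm (Fin N)) :
    Mmat S par (σ * τ) = Mmat S par σ * Mmat S par τ := by
  ext c c''
  have h1 : (Mmat S par σ * Mmat S par τ) c c''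
      = (Mmat S par σ *ᵥ (fun c' => Mmat S par τ c' c'')) c := by
    simp only [Matrix.mul_apply, Matrix.mulVec, dotProduct]
  have h2 : (fun c' => Mmat S par τ c' c'') = Pmap S par (pact τ (S c'')) := rfl
  rw [h1, h2, Mmat_mulVec, Pmap_pact_Tmap_Pmap hpar hE hG hK σ (isEven_pact τ (hE c'')),
    ← pact_mul]
  rfl

/-- the matrix representation as a monoid hom -/
def Rmat : Equiv.Perm (Fin N) →* Matrix ι ι (ZMod 2) where
  toFun := Mmat S par
  map_one' := Mmat_one hpar hG
  map_mul' := Mmat_mul hpar hE hG hK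

/-- into `GL` -/
def Rgl : Equiv.Perm (Fin N) →* Matrix.GeneralLinearGroup ι (ZMod 2) :=
  (Rmat hpar hE hG hK).toHomUnits

theorem Rgl_val (σ : Equiv.Perm (Fin N)) :
    ((Rgl hpar hE hG hK σ : Matrix.GeneralLinearGroup ι (ZMod 2)) : Matrix ι ι (ZMod 2))
      = Mmat S par σ := rfl

variable (h4 : 4 ∣ N) (QW : (ι → ZMod 2) → ZMod 2) (hQ : ∀ x, QW x = qf (Tmap S x))

include h4 hQ in
theorem Rgl_mem (σ : Equiv.Perm (Fin N)) :
    Rgl hpar hE hG hK σ ∈ Cfsg.isometryGroup (ZMod 2) QW := by
  intro u _
  change QW (Mmat S par σ *ᵥ u) = QW u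
  rw [hQ, hQ, Mmat_mulVec]
  have he : IsEven (pact σ (Tmap S u)) := isEven_pact σ (isEven_Tmap hE u)
  rcases Tmap_Pmap hpar hE hG hK he with h | h
  · rw [h, qf_pact]
  · rw [h, qf_add_ones h4 he, qf_pact]

/-- the representation in the isometry group -/
def Riso : Equiv.Perm (Fin N) →* ↥(Cfsg.isometryGroup (ZMod 2) QW) :=
  (Rgl hpar hE hG hK).codRestrict _ (Rgl_mem hpar hE hG hK h4 QW hQ)

variable (hN : 8 ≤ N)

include hN in
theorem eq_one_of_fix_pairs (σ : Equiv.Perm (Fin N))
    (h : ∀ a b : Fin N, a ≠ b → pact σ (ind {a, b}) = ind {a, b}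
      ∨ pact σ (ind {a, b}) = ind {a, b} + ones) : σ = 1 := by
  have hpair : ∀ a b : Fin N, a ≠ b → ({σ a, σ b} : Finset (Fin N)) = {a, b} := by
    intro a b hab
    have hmap : ({a, b} : Finset (Fin N)).map σ.toEmbedding = {σ a, σ b} := by
      ext i
      simp only [Finset.mem_map, Finset.mem_insert, Finset.mem_singleton,
        Equiv.coe_toEmbedding]
      constructor
      · rintro ⟨j, hj | hj, rfl⟩
        · left; rw [hj]
        · right; rw [hj]
      · rintro (hi | hi)
        · exact ⟨a, Or.inl rfl, hi.symm⟩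
        · exact ⟨b, Or.inr rfl, hi.symm⟩
    rcases h a b hab with h1 | h1
    · rw [pact_ind, hmap] at h1
      have := congrArg supp h1
      rwa [supp_ind, supp_ind] at this
    · exfalso
      have hw1 : wt (pact σ (ind ({a, b} : Finset (Fin N)))) = 2 := by
        rw [wt_pact, wt_ind, Finset.card_pair hab]
      rw [h1] at hw1
      have hones : (ones : Vec N) = ind univ := ind_univ.symm
      rw [hones, ind_add, wt_ind] at hw1
      have hc := card_symmDiff_add ({a, b} : Finset (Fin N)) univ
      rw [hw1, Finset.inter_univ, Finset.card_pair hab, Finset.card_univ, Fintype.card_fin] at hc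
      omega
  ext1 a
  rw [Equiv.Perm.one_apply]
  -- pick two other points
  have hN3 : 3 ≤ N := by omega
  obtain ⟨b, hb⟩ : ∃ b : Fin N, b ≠ a := by
    by_cases ha : a.val = 0
    · exact ⟨⟨1, by omega⟩, fun h => by have := congrArg Fin.val h; simp at this; omega⟩
    · exact ⟨⟨0, by omega⟩, fun h => by have := congrArg Fin.val h; simp at this; omega⟩
  obtain ⟨c, hca, hcb⟩ : ∃ c : Fin N, c ≠ a ∧ c ≠ b := by
    have : ∃ c : Fin N, c ∉ ({a, b} : Finset (Fin N)) := by
      by_contra hcon
      push Not at hcon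
      have : (univ : Finset (Fin N)) ⊆ {a, b} := fun x _ => hcon x
      have := Finset.card_le_card this
      rw [Finset.card_univ, Fintype.card_fin] at this
      have := Finset.card_le_two (a := a) (b := b)
      omega
    obtain ⟨c, hc⟩ := this
    simp only [Finset.mem_insert, Finset.mem_singleton, not_or] at hc
    exact ⟨c, hc.1, hc.2⟩
  have h1 := hpair a b hb.symm
  have h2 := hpair a c hca.symm
  have m1 : σ a ∈ ({a, b} : Finset (Fin N)) := by
    rw [← h1]; simp
  have m2 : σ a ∈ ({a, c} : Finset (Fin N)) := by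
    rw [← h2]; simp
  simp only [Finset.mem_insert, Finset.mem_singleton] at m1 m2
  rcases m1 with m1 | m1
  · exact m1
  · rcases m2 with m2 | m2
    · exact m2
    · exfalso
      exact hcb (m2.symm.trans m1)

include hN in
theorem Riso_injective : Function.Injective (Riso hpar hE hG hK h4 QW hQ) := by
  rw [injective_iff_map_eq_one]
  intro σ hσ
  have hM : Mmat S par σ = 1 := by
    have := congrArg (fun g : ↥(Cfsg.isometryGroup (ZMod 2) QW) =>
      ((g : Matrix.GeneralLinearGroup ι (ZMod 2)) : Matrix ι ι (ZMod 2))) hσ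
    exact this
  apply eq_one_of_fix_pairs hN
  intro a b hab
  have hw : IsEven (ind ({a, b} : Finset (Fin N))) := by
    apply isEven_ind
    rw [Finset.card_pair hab]
    exact even_two
  set w := ind ({a, b} : Finset (Fin N)) with hwdef
  -- `P (σ w) = P w`
  have h1 : Pmap S par (pact σ w) = Pmap S par w := by
    rw [← Pmap_pact_Tmap_Pmap hpar hE hG hK σ hw, ← Mmat_mulVec, hM, Matrix.one_mulVec]
  have hd : IsEven (pact σ w + w) := (isEven_pact σ hw).add hw
  have h0 : ∀ c, dot (pact σ w + w) (S c) = 0 := by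
    intro c
    rw [dot_add_left]
    have := congrFun h1 (par c)
    unfold Pmap at this
    rw [hpar] at this
    rw [this]
    exact z2_add_self _
  rcases hK _ hd h0 with h | h
  · left
    funext i
    have := congrFun h i
    simp only [Pi.add_apply, Pi.zero_apply] at this
    exact z2_eq_of_add_eq_zero this
  · right
    funext i
    have := congrFun h i
    simp only [Pi.add_apply] at this ⊢
    rw [← this, add_comm (pact σ w i), ← add_assoc, z2_add_self, zero_add]

end Frame

end Cfsg.Agent.Lib.Helper5.SymOrth
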