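import Mathlib
import Cfsg.Prelude.Def_Classical
import Cfsg.Agent.Lib.Helper5.SymOrth.Family
import Cfsg.Agent.Lib.Helper5.SymOrth.Frame

/-!
# The two frames: plus type (`k` odd) and minus type (`k` even)
-/

set_option autoImplicit false

namespace Cfsg.Agent.Lib.Helper5.SymOrth

open Finset

variable (k : ℕ)

local notation "NN" => 4 * k + 4

/-! ### plus type -/

/-- extended `E` family -/
def eP (j : ℕ) : Vec NN := if j < 2 * k then ee k j else ww k

/-- extended `F` family -/
def fP (j : ℕ) : Vec NN := if j < 2 * k then ff k j else ww k + zz k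

variable {k}

theorem isEven_eP {j : ℕ} (hj : j ≤ 2 * k) : IsEven (eP k j) := by
  unfold eP
  split_ifs
  · exact isEven_ee hj
  · exact isEven_ww

theorem isEven_fP {j : ℕ} (hj : j ≤ 2 * k) : IsEven (fP k j) := by
  unfold fP
  split_ifs
  · exact isEven_ff hj
  · exact isEven_ww.add isEven_zz

theorem dot_ee_ww {j : ℕ} (hj : j < 2 * k) : dot (ee k j) (ww k) = 0 := by
  rw [dot_comm, dot_ww_ee hj]

theorem dot_ff_ww {j : ℕ} (hj : j < 2 * k) : dot (ff k j) (ww k) = 0 := by
  rw [dot_comm, dot_ww_ff hj]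

theorem dot_ee_zz {j : ℕ} (hj : j < 2 * k) : dot (ee k j) (zz k) = 0 := by
  rw [dot_comm, dot_zz_ee hj]

theorem dot_ff_zz {j : ℕ} (hj : j < 2 * k) : dot (ff k j) (zz k) = 0 := by
  rw [dot_comm, dot_zz_ff hj]

theorem dot_zz_ww : dot (zz k) (ww k) = 1 := by
  rw [dot_comm, dot_ww_zz]

theorem dot_eP_eP {i j : ℕ} (_hi : i ≤ 2 * k) (_hj : j ≤ 2 * k) :
    dot (eP k i) (eP k j) = 0 := by
  unfold eP
  by_cases h1 : i < 2 * k <;> by_cases h2 : j < 2 * k
  · rw [if_pos h1, if_pos h2]; exact dot_ee_ee h1 h2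
  · rw [if_pos h1, if_neg h2]; exact dot_ee_ww h1
  · rw [if_neg h1, if_pos h2]; exact dot_ww_ee h2
  · rw [if_neg h1, if_neg h2]; exact dot_ww_ww

theorem dot_fP_fP {i j : ℕ} (_hi : i ≤ 2 * k) (_hj : j ≤ 2 * k) :
    dot (fP k i) (fP k j) = 0 := by
  unfold fP
  by_cases h1 : i < 2 * k <;> by_cases h2 : j < 2 * k
  · rw [if_pos h1, if_pos h2]; exact dot_ff_ff h1 h2
  · rw [if_pos h1, if_neg h2, dot_add_right, dot_ff_ww h1, dot_ff_zz h1, add_zero]
  · rw [if_neg h1, if_pos h2, dot_add_left, dot_ww_ff h2, dot_zz_ff h2, add_zero]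
  · rw [if_neg h1, if_neg h2]; exact dot_self_of_even (isEven_ww.add isEven_zz)

theorem dot_eP_fP {i j : ℕ} (hi : i ≤ 2 * k) (hj : j ≤ 2 * k) :
    dot (eP k i) (fP k j) = if i = j then 1 else 0 := by
  unfold eP fP
  by_cases h1 : i < 2 * k <;> by_cases h2 : j < 2 * k
  · rw [if_pos h1, if_pos h2]; exact dot_ee_ff h1 h2
  · rw [if_pos h1, if_neg h2, dot_add_right, dot_ee_ww h1, dot_ee_zz h1, add_zero,
      if_neg (by omega)]
  · rw [if_neg h1, if_pos h2, dot_ww_ff h2, if_neg (by omega)]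
  · rw [if_neg h1, if_neg h2, dot_add_right, dot_ww_ww, dot_ww_zz, zero_add, if_pos (by omega)]

theorem qf_eP (hk : Odd k) {j : ℕ} (hj : j ≤ 2 * k) : qf (eP k j) = 0 := by
  unfold eP
  split_ifs with h
  · exact qf_ee h
  · rw [qf_ww]
    exact z2_cast_even (by
      obtain ⟨m, rfl⟩ := hk
      exact ⟨m + 1, by ring⟩)

theorem qf_fP (hk : Odd k) {j : ℕ} (hj : j ≤ 2 * k) : qf (fP k j) = 0 := by
  unfold fP
  split_ifs with h
  · exact qf_ff h
  · rw [qf_add isEven_ww isEven_zz, qf_ww, qf_zz, dot_ww_zz]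
    have : ((k + 1 : ℕ) : ZMod 2) = 0 := z2_cast_even (by
      obtain ⟨m, rfl⟩ := hk
      exact ⟨m + 1, by ring⟩)
    rw [this]
    decide

variable (k)

/-- the plus frame -/
def SP : Fin (2 * k + 1) ⊕ Fin (2 * k + 1) → Vec NN
  | Sum.inl i => eP k i.val
  | Sum.inr i => fP k i.val

variable {k}

theorem SP_par (c : Fin (2 * k + 1) ⊕ Fin (2 * k + 1)) : Sum.swap (Sum.swap c) = c :=
  Sum.swap_swap c

theorem SP_even (c : Fin (2 * k + 1) ⊕ Fin (2 * k + 1)) : IsEven (SP k c) := by
  rcases c with i | i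
  · exact isEven_eP (by have := i.isLt; omega)
  · exact isEven_fP (by have := i.isLt; omega)

theorem SP_gram (c c' : Fin (2 * k + 1) ⊕ Fin (2 * k + 1)) :
    dot (SP k c) (SP k c') = if c' = Sum.swap c then 1 else 0 := by
  rcases c with i | i <;> rcases c' with j | j
  · have hi := i.isLt
    have hj := j.isLt
    change dot (eP k i.val) (eP k j.val) = _
    rw [dot_eP_eP (by omega) (by omega), if_neg]
    simp
  · have hi := i.isLt
    have hj := j.isLt
    change dot (eP k i.val) (fP k j.val) = _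
    rw [dot_eP_fP (by omega) (by omega)]
    simp only [Sum.swap_inl, Sum.inr.injEq]
    by_cases h : i = j
    · subst h; simp
    · rw [if_neg (fun h' => h (Fin.ext h')), if_neg (Ne.symm h)]
  · have hi := i.isLt
    have hj := j.isLt
    change dot (fP k i.val) (eP k j.val) = _
    rw [dot_comm, dot_eP_fP (by omega) (by omega)]
    simp only [Sum.swap_inr, Sum.inl.injEq]
    by_cases h : i = j
    · subst h; simp
    · rw [if_neg (fun h' => h (Fin.ext h').symm), if_neg (Ne.symm h)]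
  · have hi := i.isLt
    have hj := j.isLt
    change dot (fP k i.val) (fP k j.val) = _
    rw [dot_fP_fP (by omega) (by omega), if_neg]
    simp

theorem SP_key (w : Vec NN) (hw : IsEven w) (h : ∀ c, dot w (SP k c) = 0) :
    w = 0 ∨ w = ones := by
  have hlast : (2 * k) < 2 * k + 1 := by omega
  have h1 : dot w (ww k) = 0 := by
    have := h (Sum.inl ⟨2 * k, hlast⟩)
    change dot w (eP k (2 * k)) = 0 at this
    unfold eP at this
    rwa [if_neg (lt_irrefl _)] at this
  have h2 : dot w (ww k + zz k) = 0 := by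
    have := h (Sum.inr ⟨2 * k, hlast⟩)
    change dot w (fP k (2 * k)) = 0 at this
    unfold fP at this
    rwa [if_neg (lt_irrefl _)] at this
  have h3 : dot w (zz k) = 0 := by
    rw [dot_add_right, h1, zero_add] at h2
    exact h2
  apply key_family hw h3 h1
  · intro j hj
    have := h (Sum.inl ⟨j, by omega⟩)
    change dot w (eP k j) = 0 at this
    unfold eP at this
    rwa [if_pos hj] at this
  · intro j hj
    have := h (Sum.inr ⟨j, by omega⟩)
    change dot w (fP k j) = 0 at this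
    unfold fP at this
    rwa [if_pos hj] at this

theorem SP_form (hk : Odd k) (x : Fin (2 * k + 1) ⊕ Fin (2 * k + 1) → ZMod 2) :
    Cfsg.quadFormPlus (2 * k + 1) (ZMod 2) x = qf (Tmap (SP k) x) := by
  unfold Cfsg.quadFormPlus Tmap
  rw [Fintype.sum_sum_type, ← Finset.sum_add_distrib]
  symm
  exact qf_hyp_sum (fun i : Fin (2 * k + 1) => eP k i.val) (fun i => fP k i.val)
    (fun i => isEven_eP (by have := i.isLt; omega))
    (fun i => isEven_fP (by have := i.isLt; omega))
    (fun i j => dot_eP_eP (by have := i.isLt; omega) (by have := j.isLt; omega))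
    (fun i j => dot_fP_fP (by have := i.isLt; omega) (by have := j.isLt; omega))
    (fun i j => by
      rw [dot_eP_fP (by have := i.isLt; omega) (by have := j.isLt; omega)]
      by_cases h : i = j
      · subst h; simp
      · rw [if_neg (fun h' => h (Fin.ext h')), if_neg h])
    (fun i => qf_eP hk (by have := i.isLt; omega))
    (fun i => qf_fP hk (by have := i.isLt; omega))
    (fun i => x (Sum.inl i)) (fun i => x (Sum.inr i))

theorem exists_plus (hk1 : 1 ≤ k) (hk : Odd k) :
    ∃ φ : Equiv.Perm (Fin (4 * k + 4)) →*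
      ↥(Cfsg.isometryGroup (ZMod 2) (Cfsg.quadFormPlus (2 * k + 1) (ZMod 2))),
      Function.Injective φ :=
  ⟨Riso (S := SP k) (par := Sum.swap) SP_par SP_even SP_gram SP_key ⟨k + 1, by ring⟩ _
      (SP_form hk),
    Riso_injective SP_par SP_even SP_gram SP_key ⟨k + 1, by ring⟩ _ (SP_form hk) (by omega)⟩

/-! ### minus type -/

variable (k)

/-- the minus frame -/
def SM : (Fin (2 * k) ⊕ Fin (2 * k)) ⊕ Fin 2 → Vec NN
  | Sum.inl (Sum.inl i) => ee k i.val
  | Sum.inl (Sum.inr i) => ff k i.val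
  | Sum.inr t => if t = 0 then zz k else ww k

/-- the partner map -/
def parM {m : ℕ} : (Fin m ⊕ Fin m) ⊕ Fin 2 → (Fin m ⊕ Fin m) ⊕ Fin 2
  | Sum.inl c => Sum.inl c.swap
  | Sum.inr t => Sum.inr (if t = 0 then 1 else 0)

variable {k}

theorem parM_parM {m : ℕ} (c : (Fin m ⊕ Fin m) ⊕ Fin 2) : parM (parM c) = c := by
  rcases c with c | t
  · simp [parM]
  · fin_cases t <;> simp [parM]

theorem SM_even (c : (Fin (2 * k) ⊕ Fin (2 * k)) ⊕ Fin 2) : IsEven (SM k c) := by
  rcases c with (i | i) | t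
  · exact isEven_ee (by have := i.isLt; omega)
  · exact isEven_ff (by have := i.isLt; omega)
  · change IsEven (if t = 0 then zz k else ww k)
    split_ifs
    · exact isEven_zz
    · exact isEven_ww

theorem fin2_cases (t : Fin 2) : t = 0 ∨ t = 1 := by
  revert t; decide

theorem gram_last (t t' : Fin 2) :
    dot (if t = 0 then zz k else ww k) (if t' = 0 then zz k else ww k)
      = if t' = (if t = 0 then 1 else 0) then 1 else 0 := by
  rcases fin2_cases t with rfl | rfl <;> rcases fin2_cases t' with rfl | rfl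
  · show dot (zz k) (zz k) = _
    rw [dot_zz_zz]; decide
  · show dot (zz k) (ww k) = _
    rw [dot_zz_ww]; decide
  · show dot (ww k) (zz k) = _
    rw [dot_ww_zz]; decide
  · show dot (ww k) (ww k) = _
    rw [dot_ww_ww]; decide

theorem SM_gram (c c' : (Fin (2 * k) ⊕ Fin (2 * k)) ⊕ Fin 2) :
    dot (SM k c) (SM k c') = if c' = parM c then 1 else 0 := by
  rcases c with (i | i) | t <;> rcases c' with (j | j) | t'
  · have hne : (Sum.inl (Sum.inl j) : (Fin (2 * k) ⊕ Fin (2 * k)) ⊕ Fin 2)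
        ≠ parM (Sum.inl (Sum.inl i)) := by simp [parM]
    rw [if_neg hne]
    exact dot_ee_ee i.isLt j.isLt
  · change dot (ee k i.val) (ff k j.val) = _
    rw [dot_ee_ff i.isLt j.isLt]
    simp only [parM, Sum.swap_inl, Sum.inl.injEq, Sum.inr.injEq]
    by_cases h : i = j
    · subst h; simp
    · rw [if_neg (fun h' => h (Fin.ext h')), if_neg (Ne.symm h)]
  · have hne : (Sum.inr t' : (Fin (2 * k) ⊕ Fin (2 * k)) ⊕ Fin 2)
        ≠ parM (Sum.inl (Sum.inl i)) := by simp [parM]
    rw [if_neg hne]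
    change dot (ee k i.val) (if t' = 0 then zz k else ww k) = _
    split_ifs
    · exact dot_ee_zz i.isLt
    · exact dot_ee_ww i.isLt
  · change dot (ff k i.val) (ee k j.val) = _
    rw [dot_ff_ee i.isLt j.isLt]
    simp only [parM, Sum.swap_inr, Sum.inl.injEq]
    by_cases h : i = j
    · subst h; simp
    · rw [if_neg (fun h' => h (Fin.ext h')), if_neg (Ne.symm h)]
  · have hne : (Sum.inl (Sum.inr j) : (Fin (2 * k) ⊕ Fin (2 * k)) ⊕ Fin 2)
        ≠ parM (Sum.inl (Sum.inr i)) := by simp [parM]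
    rw [if_neg hne]
    exact dot_ff_ff i.isLt j.isLt
  · have hne : (Sum.inr t' : (Fin (2 * k) ⊕ Fin (2 * k)) ⊕ Fin 2)
        ≠ parM (Sum.inl (Sum.inr i)) := by simp [parM]
    rw [if_neg hne]
    change dot (ff k i.val) (if t' = 0 then zz k else ww k) = _
    split_ifs
    · exact dot_ff_zz i.isLt
    · exact dot_ff_ww i.isLt
  · have hne : (Sum.inl (Sum.inl j) : (Fin (2 * k) ⊕ Fin (2 * k)) ⊕ Fin 2)
        ≠ parM (Sum.inr t) := by simp [parM]
    rw [if_neg hne]
    change dot (if t = 0 then zz k else ww k) (ee k j.val) = _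
    split_ifs
    · exact dot_zz_ee j.isLt
    · exact dot_ww_ee j.isLt
  · have hne : (Sum.inl (Sum.inr j) : (Fin (2 * k) ⊕ Fin (2 * k)) ⊕ Fin 2)
        ≠ parM (Sum.inr t) := by simp [parM]
    rw [if_neg hne]
    change dot (if t = 0 then zz k else ww k) (ff k j.val) = _
    split_ifs
    · exact dot_zz_ff j.isLt
    · exact dot_ww_ff j.isLt
  · change dot (if t = 0 then zz k else ww k) (if t' = 0 then zz k else ww k) = _
    rw [gram_last]
    simp only [parM, Sum.inr.injEq]

theorem SM_key (w : Vec NN) (hw : IsEven w) (h : ∀ c, dot w (SM k c) = 0) :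
    w = 0 ∨ w = ones := by
  have h1 : dot w (zz k) = 0 := by
    have := h (Sum.inr 0)
    change dot w (if (0 : Fin 2) = 0 then zz k else ww k) = 0 at this
    rwa [if_pos rfl] at this
  have h2 : dot w (ww k) = 0 := by
    have := h (Sum.inr 1)
    change dot w (if (1 : Fin 2) = 0 then zz k else ww k) = 0 at this
    rwa [if_neg (by decide)] at this
  apply key_family hw h1 h2
  · intro j hj
    exact h (Sum.inl (Sum.inl ⟨j, hj⟩))
  · intro j hj
    exact h (Sum.inl (Sum.inr ⟨j, hj⟩))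

theorem SM_form (hk : Even k) (x : (Fin (2 * k) ⊕ Fin (2 * k)) ⊕ Fin 2 → ZMod 2) :
    Cfsg.quadFormMinus (2 * k) (ZMod 2) 1 1 x = qf (Tmap (SM k) x) := by
  unfold Cfsg.quadFormMinus Tmap
  rw [Fintype.sum_sum_type, Fintype.sum_sum_type, ← Finset.sum_add_distrib, Fin.sum_univ_two]
  change _ = qf ((∑ i : Fin (2 * k), (x (Sum.inl (Sum.inl i)) • ee k i.val
      + x (Sum.inl (Sum.inr i)) • ff k i.val))
    + (x (Sum.inr 0) • (if (0 : Fin 2) = 0 then zz k else ww k)
      + x (Sum.inr 1) • (if (1 : Fin 2) = 0 then zz k else ww k)))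
  rw [if_pos rfl, if_neg (by decide)]
  have hE : IsEven (∑ i : Fin (2 * k), (x (Sum.inl (Sum.inl i)) • ee k i.val
      + x (Sum.inl (Sum.inr i)) • ff k i.val)) :=
    isEven_hyp_sum (fun i : Fin (2 * k) => ee k i.val) (fun i => ff k i.val)
      (fun i => isEven_ee (by have := i.isLt; omega))
      (fun i => isEven_ff (by have := i.isLt; omega)) _ _
  have hq : IsEven (x (Sum.inr 0) • zz k + x (Sum.inr 1) • ww k) :=
    (isEven_zz.smul _).add (isEven_ww.smul _)
  rw [qf_add hE hq]
  have h1 := qf_hyp_sum (fun i : Fin (2 * k) => ee k i.val) (fun i => ff k i.val)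
    (fun i => isEven_ee (by have := i.isLt; omega))
    (fun i => isEven_ff (by have := i.isLt; omega))
    (fun i j => dot_ee_ee i.isLt j.isLt)
    (fun i j => dot_ff_ff i.isLt j.isLt)
    (fun i j => by
      rw [dot_ee_ff i.isLt j.isLt]
      by_cases h : i = j
      · subst h; simp
      · rw [if_neg (fun h' => h (Fin.ext h')), if_neg h])
    (fun i => qf_ee i.isLt)
    (fun i => qf_ff i.isLt)
    (fun i => x (Sum.inl (Sum.inl i))) (fun i => x (Sum.inl (Sum.inr i)))
  have h2 := dot_hyp_sum (fun i : Fin (2 * k) => ee k i.val) (fun i => ff k i.val)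
    (fun i => x (Sum.inl (Sum.inl i))) (fun i => x (Sum.inl (Sum.inr i)))
    (x (Sum.inr 0) • zz k + x (Sum.inr 1) • ww k)
    (fun i => by
      rw [dot_add_right, dot_smul_right, dot_smul_right, dot_ee_zz i.isLt, dot_ee_ww i.isLt]
      ring)
    (fun i => by
      rw [dot_add_right, dot_smul_right, dot_smul_right, dot_ff_zz i.isLt, dot_ff_ww i.isLt]
      ring)
  have h3 : qf (x (Sum.inr 0) • zz k + x (Sum.inr 1) • ww k)
      = x (Sum.inr 0) ^ 2 + 1 * x (Sum.inr 0) * x (Sum.inr 1) + 1 * x (Sum.inr 1) ^ 2 := by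
    rw [qf_plane isEven_zz isEven_ww, qf_zz, qf_ww, dot_zz_ww]
    have : ((k + 1 : ℕ) : ZMod 2) = 1 := z2_cast_odd (by
      obtain ⟨m, rfl⟩ := hk
      exact ⟨m, by ring⟩)
    rw [this, pow_two, pow_two, z2_mul_self, z2_mul_self]
    ring
  rw [h1, h2, h3, add_zero]

theorem exists_minus (hk1 : 1 ≤ k) (hk : Even k) :
    ∃ φ : Equiv.Perm (Fin (4 * k + 4)) →*
      ↥(Cfsg.isometryGroup (ZMod 2) (Cfsg.quadFormMinus (2 * k) (ZMod 2) 1 1)),
      Function.Injective φ :=
  ⟨Riso (S := SM k) (par := parM) parM_parM SM_even SM_gram SM_key ⟨k + 1, by ring⟩ _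
      (SM_form hk),
    Riso_injective parM_parM SM_even SM_gram SM_key ⟨k + 1, by ring⟩ _ (SM_form hk) (by omega)⟩

end Cfsg.Agent.Lib.Helper5.SymOrth
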